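import Groth.Agent.InertiaTame.Basic
import Groth.Agent.Hensel.Branches
import Mathlib.RingTheory.DedekindDomain.IntegralClosure
import Mathlib.RingTheory.IntegralClosure.IntegralRestrict
import Mathlib.RingTheory.DiscreteValuationRing.TFAE
import Mathlib.FieldTheory.Galois.Basic

/-!
The fundamental character over a strictly henselian DVR, at finite level:
every element killed by it is a product of two `r`-th powers.
-/

set_option autoImplicit false

namespace Groth.Agent.TameChar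

universe u v

open IsLocalRing

/-- Group theory: if `Γ` is (cyclic) by (order prime to `r`), the kernel of a character of order `r`
consists of products of two `r`-th powers. -/
theorem group_lemma {Γ : Type*} [Group Γ] [Finite Γ] {μ : Type*} [CommGroup μ] {F : Type*} [Field F]
    (χ : Γ →* μ) (ψ : Γ →* Fˣ) (r : ℕ) (hr : ∀ γ, χ γ ^ r = 1)
    (hgen : ∀ d : ℕ, (∀ γ, χ γ ^ d = 1) → r ∣ d)
    (hcop : ∀ γ, ψ γ = 1 → (orderOf γ).Coprime r) {σ : Γ} (hσ : χ σ = 1) :
    ∃ g s : Γ, σ = g ^ r * s ^ r := by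
  have hS : ∀ γ, ψ γ = 1 → χ γ = 1 := fun γ hγ => by
    rw [← orderOf_eq_one_iff]
    exact Nat.eq_one_of_dvd_coprimes (hcop γ hγ) (orderOf_map_dvd χ γ)
      (orderOf_dvd_of_pow_eq_one (hr γ))
  haveI : Finite ψ.range := Finite.of_surjective _ ψ.rangeRestrict_surjective
  haveI : IsCyclic ψ.range :=
    isCyclic_of_subgroup_isDomain ((Units.coeHom F).comp ψ.range.subtype)
      (fun a b h => Subtype.ext (Units.ext h))
  obtain ⟨⟨x, g₀, rfl⟩, hx⟩ := IsCyclic.exists_generator (α := ψ.range)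
  have hdec : ∀ γ, ∃ (j : ℤ) (s : Γ), ψ s = 1 ∧ γ = g₀ ^ j * s := fun γ => by
    obtain ⟨j, hj⟩ := Subgroup.mem_zpowers_iff.1 (hx ⟨ψ γ, γ, rfl⟩)
    refine ⟨j, (g₀ ^ j)⁻¹ * γ, ?_, by group⟩
    have h' := congrArg (Subtype.val) hj
    push_cast at h'
    rw [map_mul, map_inv, map_zpow, h', inv_mul_cancel]
  have hord : r ∣ orderOf (χ g₀) := hgen _ fun γ => by
    obtain ⟨j, s, hs, rfl⟩ := hdec γ
    rw [map_mul, hS s hs, mul_one, map_zpow, ← zpow_natCast, ← zpow_mul, mul_comm, zpow_mul,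
      zpow_natCast, pow_orderOf_eq_one, one_zpow]
  obtain ⟨j, s, hs, rfl⟩ := hdec σ
  rw [map_mul, hS s hs, mul_one, map_zpow, ← orderOf_dvd_iff_zpow_eq_one] at hσ
  obtain ⟨i, rfl⟩ : (r : ℤ) ∣ j := (Int.natCast_dvd_natCast.2 hord).trans hσ
  obtain ⟨a, ha⟩ := exists_pow_eq_self_of_coprime (hcop s hs).symm
  refine ⟨g₀ ^ i, s ^ a, ?_⟩
  rw [← pow_mul, mul_comm a r, pow_mul, ha, ← zpow_natCast (g₀ ^ i), ← zpow_mul, mul_comm i]

variable {K : Type u} [Field K] {r : ℕ} [NeZero r]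

/-- All `r`-th roots of unity of an extension of `K` are fixed. -/
theorem fixed_root {E : Type v} [Field E] [Algebra K E] {ζ₀ : K} (h : IsPrimitiveRoot ζ₀ r) {x : E}
    (hx : x ^ r = 1) (σ : E ≃ₐ[K] E) : σ x = x := by
  obtain ⟨i, -, rfl⟩ := (h.map_of_injective (algebraMap K E).injective).eq_pow_of_pow_eq_one hx
  rw [map_pow, AlgEquiv.commutes]

/-- `σ ↦ σ ρ / ρ`. -/
noncomputable def chr {E : Type v} [Field E] [Algebra K E] {ζ₀ : K} (h : IsPrimitiveRoot ζ₀ r) (ρ : E)
    (hρ0 : ρ ≠ 0) (a : K) (hρ : ρ ^ r = algebraMap K E a) : (E ≃ₐ[K] E) →* Eˣ where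
  toFun σ := Units.mk0 (σ ρ / ρ) (div_ne_zero (by simp [hρ0]) hρ0)
  map_one' := Units.ext (by simp [hρ0])
  map_mul' σ τ := Units.ext (by
    have hfix : σ (τ ρ / ρ) = τ ρ / ρ := fixed_root h (by
      rw [div_pow, ← map_pow, hρ, AlgEquiv.commutes, div_self]
      rw [← hρ]; exact pow_ne_zero _ hρ0) σ
    change σ (τ ρ) / ρ = σ ρ / ρ * (τ ρ / ρ)
    conv_lhs => rw [← div_mul_cancel₀ (τ ρ) hρ0, map_mul, hfix]
    ring)

variable {E : Type v} [Field E] [Algebra K E] {ζ₀ : K} (h : IsPrimitiveRoot ζ₀ r) (ρ : E)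
    (hρ0 : ρ ≠ 0) (a : K) (hρ : ρ ^ r = algebraMap K E a)

theorem chr_pow (σ : E ≃ₐ[K] E) : chr h ρ hρ0 a hρ σ ^ r = 1 := Units.ext (by
  change (σ ρ / ρ) ^ r = 1
  rw [div_pow, ← map_pow, hρ, AlgEquiv.commutes, div_self]
  rw [← hρ]; exact pow_ne_zero _ hρ0)

theorem chr_pow_eq_one_iff (σ : E ≃ₐ[K] E) (d : ℕ) :
    chr h ρ hρ0 a hρ σ ^ d = 1 ↔ σ (ρ ^ d) = ρ ^ d := by
  rw [Units.ext_iff]
  change (σ ρ / ρ) ^ d = 1 ↔ _
  rw [div_pow, div_eq_one_iff_eq (pow_ne_zero _ hρ0), map_pow]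

theorem chr_eq_one_iff (σ : E ≃ₐ[K] E) : chr h ρ hρ0 a hρ σ = 1 ↔ σ ρ = ρ := by
  simpa using chr_pow_eq_one_iff h ρ hρ0 a hρ σ 1

section DVR

variable {R : Type u} [CommRing R] [IsDomain R] [IsDiscreteValuationRing R] [Algebra R K] [IsFractionRing R K]

/-- A uniformizer is not a proper power in `K`. -/
theorem eq_one_of_pow_eq {ϖ : R} (hϖ : Irreducible ϖ) {y : K} {m : ℕ} (hm : m ≠ 0)
    (hy : y ^ m = algebraMap R K ϖ) : m = 1 := by
  have hint : IsIntegral R y := IsIntegral.of_pow (Nat.pos_of_ne_zero hm) (hy ▸ isIntegral_algebraMap)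
  obtain ⟨z, rfl⟩ := IsIntegrallyClosed.isIntegral_iff.1 hint
  have hz : z ^ m = ϖ := IsFractionRing.injective R K (by rw [map_pow]; exact hy)
  by_contra hm1
  exact not_irreducible_pow hm1 (hz ▸ hϖ)

variable [HenselianLocalRing R] [IsSepClosed (ResidueField R)]

include h in
/-- Finite level: elements fixing `ρ` are products of two `r`-th powers. -/
theorem finite_level {L : Type u} [Field L] [Algebra K L] [Algebra R L] [IsScalarTower R K L]
    [FiniteDimensional K L] [IsGalois K L] (hr : IsUnit (r : ResidueField R))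
    {ϖ : R} (hϖ : Irreducible ϖ) {ρ : L} (hρ : ρ ^ r = algebraMap R L ϖ) :
    (∀ d : ℕ, (∀ σ : L ≃ₐ[K] L, σ (ρ ^ d) = ρ ^ d) → r ∣ d) ∧
    ∀ σ : L ≃ₐ[K] L, σ ρ = ρ → ∃ g s : L ≃ₐ[K] L, σ = g ^ r * s ^ r := by
  have hρ' : ρ ^ r = algebraMap K L (algebraMap R K ϖ) := by
    rw [hρ, ← IsScalarTower.algebraMap_apply]
  have hρ0 : ρ ≠ 0 := fun h0 => by
    rw [h0, zero_pow (NeZero.ne r)] at hρ'
    exact hϖ.ne_zero (IsFractionRing.injective R K
      ((algebraMap K L).injective (hρ'.symm.trans (map_zero _).symm) |>.trans (map_zero _).symm))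
  have hgen : ∀ d : ℕ, (∀ σ : L ≃ₐ[K] L, σ (ρ ^ d) = ρ ^ d) → r ∣ d := fun d hd => by
    -- reduce to `e = gcd d r`
    obtain ⟨e, he, hfix⟩ : ∃ e, e = Nat.gcd d r ∧ ∀ σ : L ≃ₐ[K] L, σ (ρ ^ e) = ρ ^ e := by
      refine ⟨_, rfl, fun σ => ?_⟩
      rw [← chr_pow_eq_one_iff h ρ hρ0 _ hρ']
      exact pow_gcd_eq_one.2 ⟨(chr_pow_eq_one_iff h ρ hρ0 _ hρ' σ d).2 (hd σ), chr_pow h ρ hρ0 _ hρ' σ⟩
    obtain ⟨y, hy⟩ := (IsGalois.mem_range_algebraMap_iff_fixed (ρ ^ e)).2 hfix
    obtain ⟨m, hm⟩ : e ∣ r := he ▸ Nat.gcd_dvd_right d r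
    have hy' : y ^ m = algebraMap R K ϖ := (algebraMap K L).injective (by
      rw [map_pow, hy, ← pow_mul, ← hm, hρ'])
    have hm0 : m ≠ 0 := fun h0 => NeZero.ne r (by rw [hm, h0, mul_zero])
    rw [hm, eq_one_of_pow_eq hϖ hm0 hy', mul_one, he]
    exact Nat.gcd_dvd_left d r
  refine ⟨hgen, fun σ hσ => ?_⟩
  let B := integralClosure R L
  haveI : IsIntegralClosure B R L := integralClosure.isIntegralClosure R L
  haveI : Module.Finite R B := IsIntegralClosure.finite R K L B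
  haveI : IsDedekindDomain B := IsIntegralClosure.isDedekindDomain R K L B
  haveI : Algebra.IsIntegral R B := Algebra.IsIntegral.of_finite R B
  haveI : IsLocalRing B := Hensel.isLocalRing_of_integral_domain R B
  haveI : IsLocalHom (algebraMap R B) :=
    RingHom.IsIntegral.isLocalHom (Algebra.IsIntegral.isIntegral (R := R))
      (fun x y hxy => IsFractionRing.injective R K ((algebraMap K L).injective (by
        simpa [← IsScalarTower.algebraMap_apply] using congrArg (Subtype.val) hxy)))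
  haveI : FaithfulSMul (B ≃ₐ[R] B) B := AlgEquiv.apply_faithfulSMul
  -- the residue field is purely inseparable, so inertia is everything
  haveI : Algebra.IsAlgebraic (ResidueField R) (ResidueField B) := inferInstance
  obtain ⟨q, hq⟩ := ExpChar.exists (ResidueField R)
  haveI : ExpChar (ResidueField B) q := expChar_of_injective_ringHom (algebraMap (ResidueField R) _).injective q
  have hin : ∀ (γ : B ≃ₐ[R] B) (b : B), γ • b - b ∈ maximalIdeal B := fun γ b => by
    rw [← residue_eq_zero_iff, map_sub, sub_eq_zero]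
    obtain ⟨n, c, hc⟩ := IsPurelyInseparable.pow_mem (ResidueField R) q (residue B b)
    obtain ⟨c, rfl⟩ := residue_surjective c
    rw [ResidueField.algebraMap_residue] at hc
    apply iterateFrobenius_inj (ResidueField B) q n
    simp only [iterateFrobenius_def, ← map_pow] at hc ⊢
    have h1 : b ^ q ^ n - algebraMap R B c ∈ maximalIdeal B := by
      rw [← residue_eq_zero_iff, map_sub, hc, sub_self]
    have h2 : γ (b ^ q ^ n - algebraMap R B c) ∈ maximalIdeal B := fun hu => h1 (by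
      simpa using hu.map γ.symm)
    rw [map_sub, AlgEquiv.commutes, ← residue_eq_zero_iff, map_sub, sub_eq_zero] at h2
    rw [AlgEquiv.smul_def, ← map_pow, h2, hc]
  have hnf : ¬ IsField B := fun hf => by
    have h0 : IsUnit (algebraMap R B ϖ) := by
      refine (hf.mul_inv_cancel ?_).elim fun b hb => IsUnit.of_mul_eq_one b hb
      intro h0
      have h1 := congrArg Subtype.val h0
      simp only [ZeroMemClass.coe_zero] at h1
      change algebraMap R L ϖ = 0 at h1
      rw [IsScalarTower.algebraMap_apply R K L, map_eq_zero, ← map_zero (algebraMap R K)] at h1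
      exact hϖ.ne_zero (IsFractionRing.injective R K h1)
    exact hϖ.not_isUnit (isUnit_of_map_unit _ _ h0)
  haveI : IsDiscreteValuationRing B := ((IsDiscreteValuationRing.TFAE B hnf).out 0 2).2 (show IsDedekindDomain B by infer_instance)
  obtain ⟨π, hπ⟩ := IsDiscreteValuationRing.exists_irreducible B
  have hstπ : ∀ γ : B ≃ₐ[R] B, ∃ u : Bˣ, γ π = π * u := fun γ => by
    obtain ⟨u, hu⟩ := IsDiscreteValuationRing.associated_of_irreducible B hπ
      (show Irreducible (γ π) from (MulEquiv.irreducible_iff γ.toMulEquiv).2 hπ)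
    exact ⟨u, hu.symm⟩
  have hst : ∀ (γ : B ≃ₐ[R] B) (b : B), ∃ u : B, γ • b = b * u := fun γ b => by
    rcases eq_or_ne b 0 with rfl | hb
    · exact ⟨1, by simp⟩
    obtain ⟨n, v, rfl⟩ := IsDiscreteValuationRing.eq_unit_mul_pow_irreducible hb hπ
    obtain ⟨u, hu⟩ := hstπ γ
    refine ⟨(v⁻¹ : Bˣ) * γ v * (u : B) ^ n, ?_⟩
    rw [AlgEquiv.smul_def, map_mul, map_pow, hu, mul_pow]
    linear_combination (-(γ (v : B) * π ^ n * (u : B) ^ n)) * v.mul_inv
  let S : Set (B ≃ₐ[R] B) := {γ | ∀ b : B, ∃ x ∈ maximalIdeal B, γ • b = b + b * x}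
  let ψ := (InertiaTame.chi hin hst π hπ.ne_zero).toHomUnits
  have hψ : ∀ γ, ψ γ = 1 → γ ∈ S := fun γ hγ => by
    have h1 : InertiaTame.chi hin hst π hπ.ne_zero γ = 1 := congrArg Units.val hγ
    rw [InertiaTame.mem_iff hin hst S (fun _ => Iff.rfl)]
    intro b hb
    change residue B (hst γ b).choose = 1
    obtain ⟨n, v, rfl⟩ := IsDiscreteValuationRing.eq_unit_mul_pow_irreducible hb hπ
    set w := (hst γ π).choose with hw
    have hwspec : γ π = π * w := (hst γ π).choose_spec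
    rw [InertiaTame.residue_unique hb (v := (v⁻¹ : Bˣ) * γ v * w ^ n) (by
      rw [← (hst γ _).choose_spec, AlgEquiv.smul_def, map_mul, map_pow, hwspec, mul_pow]
      linear_combination (-(γ (v : B) * π ^ n * w ^ n)) * v.mul_inv)]
    have h2 : residue B w = 1 := h1
    have h3 : residue B (γ (v : B)) = residue B v := sub_eq_zero.1 (by
      rw [← map_sub, residue_eq_zero_iff]; exact hin γ v)
    rw [map_mul, map_mul, map_pow, h2, h3, one_pow, mul_one, ← map_mul, Units.inv_mul, map_one]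
  have hrB : IsUnit (r : B) := by
    have h1 := (IsLocalRing.notMem_maximalIdeal (x := (r : R))).symm
    have h2 : IsUnit (r : R) := h1.2 fun hm => hr.ne_zero (by
      rw [← map_natCast (residue R), residue_eq_zero_iff]; exact hm)
    simpa using h2.map (algebraMap R B)
  let e := galRestrict R K L B
  haveI : Finite (B ≃ₐ[R] B) := Finite.of_equiv _ e.toEquiv
  obtain ⟨g, s, hgs⟩ := group_lemma ((chr h ρ hρ0 _ hρ').comp e.symm.toMonoidHom) ψ r
    (fun γ => chr_pow h ρ hρ0 _ hρ' _)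
    (fun d hd => hgen d fun τ => (chr_pow_eq_one_iff h ρ hρ0 _ hρ' τ d).1 (by simpa using hd (e τ)))
    (fun γ hγ => by
      have hS := hψ γ hγ
      set n := orderOf γ with hn
      obtain ⟨k, hk⟩ := Nat.gcd_dvd_left n r
      have hu : IsUnit ((Nat.gcd n r : ℕ) : B) := by
        obtain ⟨m, hm⟩ := Nat.gcd_dvd_right n r
        exact isUnit_of_mul_isUnit_left (y := (m : B)) (by rw [← Nat.cast_mul, ← hm]; exact hrB)
      have hpow : γ ^ k ∈ S := by
        rw [InertiaTame.mem_iff hin hst S (fun _ => Iff.rfl)] at hS ⊢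
        intro b hb
        rw [map_pow, hS b hb, one_pow]
      have h1 := InertiaTame.one_of_isUnit hin hst S (fun _ => Iff.rfl) hpow hu
        (by rw [← pow_mul, mul_comm, ← hk, hn, pow_orderOf_eq_one])
      have h2 : n ∣ k := hn ▸ orderOf_dvd_of_pow_eq_one h1
      have hkpos : 0 < k := by
        rcases Nat.eq_zero_or_pos k with rfl | h
        · exact absurd hk (by rw [mul_zero]; exact hn ▸ (orderOf_pos γ).ne')
        · exact h
      have h3 : Nat.gcd n r * k ∣ 1 * k := by rw [← hk, one_mul]; exact h2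
      exact Nat.eq_one_of_dvd_one (Nat.dvd_of_mul_dvd_mul_right hkpos h3))
    (σ := e σ) (by simpa using (chr_eq_one_iff h ρ hρ0 _ hρ' σ).2 hσ)
  exact ⟨e.symm g, e.symm s, e.injective (by simpa using hgs)⟩

end DVR

end Groth.Agent.TameChar
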